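import Groth.Agent.AlgSp.K606.Boot3
import Groth.Agent.AlgSp.K594.Bootstrap
import Groth.Agent.AlgSp.K595.DiagAlg
import Groth.Agent.AlgSp.K595.DescInst
import Groth.Agent.AlgSp.K595.DiagRel
import Groth.Agent.AlgSp.K597.LocP
import Groth.Agent.AlgSp.K597.EtLoc
import Groth.Agent.S10103
import Groth.Agent.S1128
import Groth.Agent.S0114
import Groth.Agent.S0658

/-!
# Quotients by open and closed equivalence relations

Let `s t : R ⟶ U` be an equivalence relation of schemes over `S`, with `U` flat and locally of finite
presentation over `S` and `(t, s) : R ⟶ U × U` both an open and a closed immersion. Then the quotient `U/R` is a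
scheme, separated and étale over `S`, and `U ⟶ U/R` is faithfully flat and locally of finite presentation.
-/

set_option autoImplicit false
set_option backward.isDefEq.respectTransparency.types false

universe u

open CategoryTheory CategoryTheory.Limits AlgebraicGeometry Opposite AlgSp

namespace K609.EtQuot

open K594.Quot

variable {S : Scheme.{u}} {R U : Over S}

/-- The quotient map is fppf locally surjective. -/
theorem fSurj_π (s t : R ⟶ U) : K613.Cover.FSurj (π s t) := by
  intro T g
  obtain ⟨T', c, a, hc, ha⟩ := exists_lift s t (K594.Elem.secEquiv g)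
  refine ⟨T', c, (yon S).map a, ⟨hc.flat, hc.lfp, hc.surj⟩, ?_⟩
  apply (K594.Elem.secEquiv (F := QuotSh.quot Scheme.fppfPrecoverage s t)).injective
  rw [← app_π, ha]
  exact (J S).uliftYonedaEquiv_naturality g c

variable {s t : R ⟶ U}

/-- The quotient map has every property of `s` and `t` which is fppf local on the target. -/
theorem repWith_π {P : MorphismProperty Scheme.{u}} [P.IsStableUnderBaseChange] [P.DescendsAlong K613.Cover.fppf.{u}]
    (h : IsEqvRel s t) (hF : IsAlgSpace (QuotSh.quot Scheme.fppfPrecoverage s t)) (hs : P s.left) :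
    RepWith P (π s t) :=
  (fSurj_π s t).repWith (isPullback_π s t h) (hF.representable_from_yon _) ((repWith_yon_map_iff _ _).2 hs)

/-- The diagonal of the quotient has the properties of `R ⟶ U × U`. -/
theorem repWith_diag {P : MorphismProperty Scheme.{u}} [P.IsStableUnderBaseChange]
    [P.DescendsAlong K613.Cover.fppf.{u}]
    (h : IsEqvRel s t) (hF : IsAlgSpace (QuotSh.quot Scheme.fppfPrecoverage s t)) (hs : P (prod.lift t s).left) :
    RepWith P (Limits.diag (QuotSh.quot Scheme.fppfPrecoverage s t)) := by
  have : P.RespectsIso := MorphismProperty.IsStableUnderBaseChange.respectsIso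
  refine (K606.Boot.fSurj_prodMap (fSurj_π s t) (fSurj_π s t)).repWith
    (K595.DiagAlg.isPullback_diag_prodMap (isPullback_π s t h)) hF.diag ?_
  have e : prod.lift ((yon S).map t) ((yon S).map s) =
      (yon S).map (prod.lift t s) ≫ prodComparison (yon S) U U := by
    apply Limits.prod.hom_ext
    · rw [prod.lift_fst, Category.assoc, prodComparison_fst, ← Functor.map_comp, prod.lift_fst]
    · rw [prod.lift_snd, Category.assoc, prodComparison_snd, ← Functor.map_comp, prod.lift_snd]
  rw [e]
  refine (MorphismProperty.cancel_right_of_respectsIso (RepWith P) _ _).2 ?_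
  exact (repWith_yon_map_iff P _).2 hs

/-- The relative diagonal over the terminal object. -/
theorem diagonal_eq_diag {P : MorphismProperty Scheme.{u}} [P.IsStableUnderBaseChange] {F T : Sp S}
    (hT : IsTerminal T) (f : F ⟶ T) (h : RepWith P (Limits.diag F)) :
    RepWith P (pullback.diagonal f) := by
  have : P.RespectsIso := MorphismProperty.IsStableUnderBaseChange.respectsIso
  have hm : Mono (prod.lift (pullback.fst f f) (pullback.snd f f)) := by
    constructor
    intro Z a b hab
    apply pullback.hom_ext
    · have := hab =≫ prod.fst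
      simpa only [Category.assoc, prod.lift_fst] using this
    · have := hab =≫ prod.snd
      simpa only [Category.assoc, prod.lift_snd] using this
  have e : pullback.diagonal f ≫ prod.lift (pullback.fst f f) (pullback.snd f f) = Limits.diag F := by
    apply Limits.prod.hom_ext <;> simp [Limits.diag]
  have sq : IsPullback (pullback.diagonal f) (𝟙 F) (prod.lift (pullback.fst f f) (pullback.snd f f))
      (Limits.diag F) := by
    refine ⟨⟨by rw [e, Category.id_comp]⟩, ⟨PullbackCone.IsLimit.mk _ (fun c => c.snd) ?_ ?_ ?_⟩⟩
    · intro c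
      rw [← cancel_mono (prod.lift (pullback.fst f f) (pullback.snd f f)), Category.assoc, e, c.condition]
    · intro c; exact Category.comp_id _
    · intro c m _ h2
      rw [← h2, Category.comp_id]
  have hi : IsIso (prod.lift (pullback.fst f f) (pullback.snd f f)) := by
    refine ⟨pullback.lift prod.fst prod.snd (hT.hom_ext _ _), ?_, ?_⟩
    · apply pullback.hom_ext
      · rw [Category.assoc, pullback.lift_fst, prod.lift_fst, Category.id_comp]
      · rw [Category.assoc, pullback.lift_snd, prod.lift_snd, Category.id_comp]
    · apply Limits.prod.hom_ext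
      · rw [Category.assoc, prod.lift_fst, pullback.lift_fst, Category.id_comp]
      · rw [Category.assoc, prod.lift_snd, pullback.lift_snd, Category.id_comp]
  refine (MorphismProperty.cancel_right_of_respectsIso (RepWith P) _
    (prod.lift (pullback.fst f f) (pullback.snd f f))).1 ?_
  rw [e]
  exact h

/-- An étale chart of an algebraic space with open diagonal is formally unramified over the base. -/
theorem isOpenImmersion_chart_diag {F : Sp S} (hd : RepWith @IsOpenImmersion (Limits.diag F)) {V : Over S}
    {a : (yon S).obj V ⟶ F} (ha : RepWith @Etale a) :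
    IsOpenImmersion (prod.lift (𝟙 V) (𝟙 V)).left := by
  obtain ⟨W, p, q, sq, hq⟩ := K597.exists_sq2 ha a
  have hsq := K595.DiagAlg.isPullback_diag_prodMap sq
  have e : prod.lift ((yon S).map p) ((yon S).map q) =
      (yon S).map (prod.lift p q) ≫ prodComparison (yon S) V V := by
    apply Limits.prod.hom_ext
    · rw [prod.lift_fst, Category.assoc, prodComparison_fst, ← Functor.map_comp, prod.lift_fst]
    · rw [prod.lift_snd, Category.assoc, prodComparison_snd, ← Functor.map_comp, prod.lift_snd]
  have h1 : IsOpenImmersion (prod.lift p q).left := by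
    have h2 : RepWith @IsOpenImmersion (prod.lift ((yon S).map p) ((yon S).map q)) :=
      K597.repWith_bc _ hsq hd
    rw [e] at h2
    have h3 := (MorphismProperty.cancel_right_of_respectsIso (RepWith @IsOpenImmersion) _ _).1 h2
    exact (repWith_yon_map_iff _ _).1 h3
  let d : V ⟶ W := (yon S).preimage (sq.lift (𝟙 _) (𝟙 _) rfl)
  have hd1 : d ≫ p = 𝟙 V := by
    apply (yon S).map_injective
    rw [Functor.map_comp, Functor.map_preimage, sq.lift_fst, CategoryTheory.Functor.map_id]
  have hd2 : d ≫ q = 𝟙 V := by
    apply (yon S).map_injective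
    rw [Functor.map_comp, Functor.map_preimage, sq.lift_snd, CategoryTheory.Functor.map_id]
  have e2 : d ≫ prod.lift p q = prod.lift (𝟙 V) (𝟙 V) := by
    apply Limits.prod.hom_ext
    · rw [Category.assoc, prod.lift_fst, prod.lift_fst, hd1]
    · rw [Category.assoc, prod.lift_snd, prod.lift_snd, hd2]
  have e3 : d.left ≫ q.left = 𝟙 _ := by rw [← Over.comp_left, hd2, Over.id_left]
  have h4 : IsOpenImmersion d.left := by
    have hm : Mono d.left := ⟨fun u v huv => by
      have := huv =≫ q.left
      simpa only [Category.assoc, e3, Category.comp_id] using this⟩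
    have : Etale (d.left ≫ q.left) := by rw [e3]; infer_instance
    have : Etale d.left := Etale.of_comp d.left q.left
    exact IsOpenImmersion.of_flat_of_mono _
  rw [← e2, Over.comp_left]
  infer_instance

/-- A base change of an open immersion along a monomorphism it factors through. -/
theorem isOpenImmersion_of_comp_mono {X Y Z : Scheme.{u}} (d : X ⟶ Y) (m : Y ⟶ Z) [Mono m]
    [IsOpenImmersion (d ≫ m)] : IsOpenImmersion d := by
  have sq : IsPullback d (𝟙 X) m (d ≫ m) := by
    refine ⟨⟨by rw [Category.id_comp]⟩, ⟨PullbackCone.IsLimit.mk _ (fun c => c.snd) ?_ ?_ ?_⟩⟩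
    · intro c
      rw [← cancel_mono m, Category.assoc, c.condition]
    · intro c; exact Category.comp_id _
    · intro c m' _ h2
      rw [← h2, Category.comp_id]
  exact MorphismProperty.of_isPullback (P := @IsOpenImmersion) sq.flip ‹_›

/-- Étale charts of an algebraic space with open diagonal are formally unramified over the base. -/
theorem formallyUnramified_chart {F : Sp S} (hd : RepWith @IsOpenImmersion (Limits.diag F)) {V : Over S}
    {a : (yon S).obj V ⟶ F} (ha : RepWith @Etale a) : FormallyUnramified V.hom := by
  have h := isOpenImmersion_chart_diag hd ha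
  let P : Over S := Over.mk (pullback.fst V.hom V.hom ≫ V.hom)
  let p1 : P ⟶ V := Over.homMk (pullback.fst V.hom V.hom) rfl
  let p2 : P ⟶ V := Over.homMk (pullback.snd V.hom V.hom) pullback.condition.symm
  let δ : V ⟶ P := Over.homMk (pullback.diagonal V.hom) (by
    change pullback.diagonal V.hom ≫ pullback.fst V.hom V.hom ≫ V.hom = V.hom
    rw [pullback.diagonal_fst_assoc])
  have e : δ ≫ prod.lift p1 p2 = prod.lift (𝟙 V) (𝟙 V) := by
    apply Limits.prod.hom_ext
    · rw [Category.assoc, prod.lift_fst, prod.lift_fst]
      ext1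
      exact pullback.diagonal_fst V.hom
    · rw [Category.assoc, prod.lift_snd, prod.lift_snd]
      ext1
      exact pullback.diagonal_snd V.hom
  have hm : Mono (prod.lift p1 p2).left := by
    constructor
    intro Z u v huv
    have h1 : (prod.lift p1 p2).left ≫ (prod.fst : V ⨯ V ⟶ V).left = pullback.fst V.hom V.hom := by
      rw [← Over.comp_left, prod.lift_fst]; rfl
    have h2 : (prod.lift p1 p2).left ≫ (prod.snd : V ⨯ V ⟶ V).left = pullback.snd V.hom V.hom := by
      rw [← Over.comp_left, prod.lift_snd]; rfl
    apply pullback.hom_ext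
    · have := huv =≫ (prod.fst : V ⨯ V ⟶ V).left
      rwa [Category.assoc, Category.assoc, h1] at this
    · have := huv =≫ (prod.snd : V ⨯ V ⟶ V).left
      rwa [Category.assoc, Category.assoc, h2] at this
  have h3 : IsOpenImmersion (δ.left ≫ (prod.lift p1 p2).left) := by
    rw [← Over.comp_left, e]; exact h
  have h4 : IsOpenImmersion (pullback.diagonal V.hom) :=
    isOpenImmersion_of_comp_mono δ.left (prod.lift p1 p2).left
  infer_instance

/-- **Quotients by clopen equivalence relations.** -/
theorem exists_quotient (h : IsEqvRel s t) [Flat s.left] [LocallyOfFinitePresentation s.left]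
    [Flat t.left] [LocallyOfFinitePresentation t.left] [Flat U.hom] [LocallyOfFinitePresentation U.hom]
    (ho : IsOpenImmersion (prod.lift t s).left) (hc : IsClosedImmersion (prod.lift t s).left) :
    ∃ (E : Over S) (q : U ⟶ E), IsPullback t s q q ∧ Surjective q.left ∧ Flat q.left ∧
      LocallyOfFinitePresentation q.left ∧ Etale E.hom ∧ IsSeparated E.hom := by
  have hF : IsAlgSpace (QuotSh.quot Scheme.fppfPrecoverage s t) := Groth.Agent.S10103.result S s t h
  have i1 : MorphismProperty.DescendsAlong (C := Scheme.{u}) @IsOpenImmersion K613.Cover.fppf.{u} :=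
    K595.DescInst.isOpenImmersion
  have i2 : MorphismProperty.DescendsAlong (C := Scheme.{u}) @IsClosedImmersion K613.Cover.fppf.{u} :=
    K595.DescInst.isClosedImmersion
  have i3 : MorphismProperty.DescendsAlong (C := Scheme.{u}) @Flat K613.Cover.fppf.{u} :=
    K595.DescInst.flat
  have i4 : MorphismProperty.DescendsAlong (C := Scheme.{u}) @LocallyOfFinitePresentation K613.Cover.fppf.{u} :=
    K595.RepDesc.lfp_descendsAlong_fppf
  have i5 : MorphismProperty.DescendsAlong (C := Scheme.{u}) @Surjective K613.Cover.fppf.{u} :=
    K595.RepDesc.surjective_descendsAlong_fppf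
  have hdo : RepWith @IsOpenImmersion (Limits.diag (QuotSh.quot Scheme.fppfPrecoverage s t)) :=
    repWith_diag h hF ho
  have hdc : RepWith @IsClosedImmersion (Limits.diag (QuotSh.quot Scheme.fppfPrecoverage s t)) :=
    repWith_diag h hF hc
  have hπf : RepWith @Flat (π s t) := repWith_π h hF ‹_›
  have hπl : RepWith @LocallyOfFinitePresentation (π s t) := repWith_π h hF ‹_›
  have hπs : RepWith @Surjective (π s t) := repWith_π h hF (K594.Bootstrap.surjective_of_isEqvRel h).1
  have hT : IsTerminal ((yon S).obj (Over.mk (𝟙 S))) := K596.QC2.isTerminalYon S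
  let f : QuotSh.quot Scheme.fppfPrecoverage s t ⟶ (yon S).obj (Over.mk (𝟙 S)) := hT.from _
  have hsep : IsSeparatedMor f := diagonal_eq_diag hT f hdc
  obtain ⟨V, a, ha, has⟩ := hF.atlas
  have hV : Etale V.hom := by
    obtain ⟨W, p, q, sq, hq⟩ := K597.exists_sq2 hπf a
    have hq2 : LocallyOfFinitePresentation q.left := hπl.2 _ _ _ sq
    have hq3 : Surjective q.left := hπs.2 _ _ _ sq
    have hp : Etale p.left := ha.2 _ _ _ sq.flip
    have hq1 : Flat q.left := hq
    have e : q.left ≫ V.hom = p.left ≫ U.hom := by rw [Over.w, Over.w]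
    have h1 : Flat (q.left ≫ V.hom) := by rw [e]; infer_instance
    have h2 : LocallyOfFinitePresentation (q.left ≫ V.hom) := by rw [e]; infer_instance
    have h3 : Flat V.hom := Groth.Agent.S1128.result q.left V.hom
    have h4 : LocallyOfFinitePresentation V.hom := Groth.Agent.S0114.result q.left V.hom
    have h5 : FormallyUnramified V.hom := formallyUnramified_chart hdo ha
    exact Etale.of_formallyUnramified_of_flat _
  have het : LocP @Etale f := by
    refine K597.locP_of_chart K597.etLoc_etale f a (𝟙 _) (Over.homMk V.hom (by simp) : V ⟶ Over.mk (𝟙 S)) ha has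
      (repWith_id _ _) (hT.hom_ext _ _) hV
  have hlqf : LocP (@LocallyQuasiFinite ⊓ @LocallyOfFiniteType) f := by
    intro X Y a b k ha hb w
    have : Etale k.left := het a b k ha hb w
    exact ⟨Groth.Agent.S0658.locallyQuasiFinite_of_etale k.left, inferInstance⟩
  obtain ⟨E, ⟨e⟩⟩ := K606.SepLqf.exists_iso (K606.Boot3.sepLqfSch S) hF f hlqf hsep
  let q : U ⟶ E := (yon S).preimage (π s t ≫ e.inv)
  have hq : (yon S).map q = π s t ≫ e.inv := (yon S).map_preimage _
  have hmem : ∀ {P : MorphismProperty Scheme.{u}} [P.IsStableUnderBaseChange], RepWith P (π s t) → P q.left := by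
    intro P _ hP
    have : P.RespectsIso := MorphismProperty.IsStableUnderBaseChange.respectsIso
    rw [← repWith_yon_map_iff P q, hq]
    exact (MorphismProperty.cancel_right_of_respectsIso (RepWith P) _ _).2 hP
  refine ⟨E, q, ?_, hmem hπs, hmem hπf, hmem hπl, ?_, ?_⟩
  · have h1 := isPullback_π s t h
    have h2 : IsPullback ((yon S).map t) ((yon S).map s) ((yon S).map q) ((yon S).map q) := by
      rw [hq]
      exact h1.of_iso (Iso.refl _) (Iso.refl _) (Iso.refl _) e.symm (by simp) (by simp) (by simp) (by simp)
    exact IsPullback.of_map_of_faithful (yon S) h2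
  · have := het e.hom (𝟙 _) (Over.homMk E.hom (by simp) : E ⟶ Over.mk (𝟙 S))
      ((RepWith @Etale).of_isIso _) (repWith_id _ _) (hT.hom_ext _ _)
    exact this
  · have : IsSeparatedMor ((yon S).map (Over.homMk E.hom (by simp) : E ⟶ Over.mk (𝟙 S))) := by
      have e2 : (yon S).map (Over.homMk E.hom (by simp) : E ⟶ Over.mk (𝟙 S)) = e.hom ≫ f := hT.hom_ext _ _
      rw [e2]
      exact MorphismProperty.comp_mem (IsSeparatedMor (S := S)) e.hom f
        ((K595.DiagBasic.isSeparatedMor_iff_repWith ((RepWith @IsSeparated).of_isIso e.hom).1).2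
          ((RepWith @IsSeparated).of_isIso e.hom)) hsep
    exact (isSeparatedMor_yon_map_iff _).1 this

end K609.EtQuot
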