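import Groth.Agent.Red.K609.EtQuot
import Groth.Agent.RedSub.H636.ConnFib
import Groth.Agent.RedSub.H648.TypeR
import Groth.Agent.RedSub.K197.QuotPts
import Groth.Agent.S5236

/-!
# Quotients by open and closed subgroups; normality of the neutral component
-/

set_option autoImplicit false

universe u

open CategoryTheory MonoidalCategory CartesianMonoidalCategory MonObj GrpObj AlgebraicGeometry CategoryTheory.Limits

namespace K609.OpenNorm

open K197.QuotPts (lift_whisker_mul)

variable {S : Scheme.{u}} {G H : Over S} [GrpObj G] [GrpObj H]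

/-- The equivalence relation defined by a subgroup. -/
theorem isEqvRel (i : H ⟶ G) [IsMonHom i] [Mono i] : AlgSp.IsEqvRel ((G ◁ i) ≫ μ[G]) (fst G H) where
  injective T r r' h1 h2 := by
    have e : ∀ (r : T ⟶ G ⊗ H), r ≫ (G ◁ i) ≫ μ[G] = (r ≫ fst G H) * ((r ≫ snd G H) ≫ i) := fun r => by
      rw [← lift_whisker_mul]
      congr 1
      apply CartesianMonoidalCategory.hom_ext <;> simp
    apply CartesianMonoidalCategory.hom_ext
    · exact h1
    · rw [e, e, h1] at h2
      exact (cancel_mono i).1 (mul_left_cancel h2)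
  equivalence T := by
    have key : ∀ a b : T ⟶ G, (∃ r : T ⟶ G ⊗ H, r ≫ fst G H = a ∧ r ≫ (G ◁ i) ≫ μ[G] = b) ↔
        ∃ y : T ⟶ H, b = a * (y ≫ i) := by
      intro a b
      constructor
      · rintro ⟨r, rfl, rfl⟩
        refine ⟨r ≫ snd G H, ?_⟩
        rw [← lift_whisker_mul]
        congr 1
        apply CartesianMonoidalCategory.hom_ext <;> simp
      · rintro ⟨y, rfl⟩
        exact ⟨lift a y, by simp, by rw [lift_whisker_mul]⟩
    have key' : (fun a b : T ⟶ G => ∃ r : T ⟶ G ⊗ H, r ≫ fst G H = a ∧ r ≫ (G ◁ i) ≫ μ[G] = b) =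
        fun a b => ∃ y : T ⟶ H, b = a * (y ≫ i) := by
      funext a b
      exact propext (key a b)
    rw [key']
    refine ⟨fun a => ⟨1, ?_⟩, ?_, ?_⟩
    · rw [one_comp]
      simp
    · rintro a b ⟨y, rfl⟩
      refine ⟨y⁻¹, ?_⟩
      rw [inv_comp]
      group
    · rintro a b c ⟨y, rfl⟩ ⟨z, rfl⟩
      refine ⟨y * z, ?_⟩
      rw [mul_comp, _root_.mul_assoc]

/-- The relation `G × H ⟶ G × G` is a base change of `H ⟶ G`. -/
theorem isPullback_rel (i : H ⟶ G) [Mono i] :
    IsPullback (snd G H) (prod.lift (fst G H) ((G ◁ i) ≫ μ[G])) i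
      ((prod.fst : G ⨯ G ⟶ G)⁻¹ * (prod.snd : G ⨯ G ⟶ G)) := by
  have e : ∀ {T : Over S} (r : T ⟶ G ⊗ H), r ≫ (G ◁ i) ≫ μ[G] = (r ≫ fst G H) * ((r ≫ snd G H) ≫ i) := fun r => by
    rw [← lift_whisker_mul]
    congr 1
    apply CartesianMonoidalCategory.hom_ext <;> simp
  have e' : ∀ {T : Over S} (r : T ⟶ G ⊗ H), (r ≫ prod.lift (fst G H) ((G ◁ i) ≫ μ[G])) ≫
      ((prod.fst : G ⨯ G ⟶ G)⁻¹ * (prod.snd : G ⨯ G ⟶ G)) = (r ≫ snd G H) ≫ i := fun r => by
    rw [comp_mul, comp_inv, Category.assoc, Category.assoc, prod.lift_fst, prod.lift_snd, e,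
      inv_mul_cancel_left]
  refine K197.QuotPts.isPullback_of_pts ?_ ?_ ?_
  · have := e' (𝟙 _)
    rw [Category.id_comp, Category.id_comp] at this
    exact this.symm
  · intro T x y hxy
    refine ⟨lift (y ≫ prod.fst) x, lift_snd _ _, ?_⟩
    apply Limits.prod.hom_ext
    · rw [Category.assoc, prod.lift_fst, lift_fst]
    · rw [Category.assoc, prod.lift_snd, lift_whisker_mul, hxy, comp_mul, comp_inv, mul_inv_cancel_left]
  · intro T a a' h1 h2
    apply CartesianMonoidalCategory.hom_ext
    · have := h2 =≫ prod.fst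
      rwa [Category.assoc, Category.assoc, prod.lift_fst] at this
    · exact h1

/-- The involution of the relation. -/
noncomputable def sw (i : H ⟶ G) : G ⊗ H ⟶ G ⊗ H := lift ((G ◁ i) ≫ μ[G]) (snd G H)⁻¹

theorem sw_fst (i : H ⟶ G) : sw i ≫ fst G H = (G ◁ i) ≫ μ[G] := lift_fst _ _

theorem sw_sw (i : H ⟶ G) [IsMonHom i] : sw i ≫ sw i = 𝟙 _ := by
  have e : ∀ {T : Over S} (r : T ⟶ G ⊗ H), r ≫ (G ◁ i) ≫ μ[G] = (r ≫ fst G H) * ((r ≫ snd G H) ≫ i) := fun r => by
    rw [← lift_whisker_mul]
    congr 1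
    apply CartesianMonoidalCategory.hom_ext <;> simp
  have h0 := e (𝟙 (G ⊗ H))
  rw [Category.id_comp, Category.id_comp, Category.id_comp] at h0
  apply CartesianMonoidalCategory.hom_ext
  · rw [Category.assoc, sw_fst, e, sw_fst, Category.id_comp, sw, lift_snd, h0, inv_comp, _root_.mul_inv_cancel_right]
  · rw [Category.assoc, Category.id_comp]
    change lift _ _ ≫ lift _ _ ≫ snd _ _ = _
    rw [lift_snd, comp_inv, lift_snd, _root_.inv_inv]

instance (i : H ⟶ G) [IsMonHom i] : IsIso (sw i) := ⟨sw i, sw_sw i, sw_sw i⟩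

/-- **The quotient by an open and closed subgroup.** -/
theorem exists_quotient (i : H ⟶ G) [IsMonHom i] [IsOpenImmersion i.left] [IsClosedImmersion i.left]
    [Flat G.hom] [LocallyOfFinitePresentation G.hom] :
    ∃ (E : Over S) (q : G ⟶ E), RedSub.IsQuotient i q ∧ Etale E.hom ∧ IsSeparated E.hom := by
  have hm : Mono i := Over.mono_of_mono_left i
  have hH : i.left ≫ G.hom = H.hom := Over.w i
  have hH1 : Flat H.hom := by rw [← hH]; infer_instance
  have hH2 : LocallyOfFinitePresentation H.hom := by rw [← hH]; infer_instance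
  have f1 : Flat (fst G H).left := inferInstanceAs (Flat (pullback.fst G.hom H.hom))
  have f2 : LocallyOfFinitePresentation (fst G H).left :=
    inferInstanceAs (LocallyOfFinitePresentation (pullback.fst G.hom H.hom))
  have hi : IsIso (sw i).left := inferInstanceAs (IsIso ((Over.forget S).map (sw i)))
  have g1 : Flat ((G ◁ i) ≫ μ[G]).left := by
    rw [← sw_fst, Over.comp_left]
    exact MorphismProperty.comp_mem (W := @Flat) _ _ inferInstance f1
  have g2 : LocallyOfFinitePresentation ((G ◁ i) ≫ μ[G]).left := by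
    rw [← sw_fst, Over.comp_left]
    exact MorphismProperty.comp_mem (W := @LocallyOfFinitePresentation) _ _ inferInstance f2
  have sq := (isPullback_rel i).map (Over.forget S)
  have h1 : IsOpenImmersion (prod.lift (fst G H) ((G ◁ i) ≫ μ[G])).left :=
    MorphismProperty.of_isPullback (P := @IsOpenImmersion) sq ‹_›
  have h2 : IsClosedImmersion (prod.lift (fst G H) ((G ◁ i) ≫ μ[G])).left :=
    MorphismProperty.of_isPullback (P := @IsClosedImmersion) sq ‹_›
  obtain ⟨E, q, a1, a2, a3, a4, a5, a6⟩ := K609.EtQuot.exists_quotient (isEqvRel i) h1 h2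
  exact ⟨E, q, ⟨a2, a3, a4, a1⟩, a5, a6⟩

open Groth.Agent.Sga3.H778.NeutralPts in
/-- An open subgroup with connected fibres (whose range is the neutral set) is normal. -/
theorem isNormalHom (i : H ⟶ G) [IsMonHom i] [IsOpenImmersion i.left] [LocallyOfFiniteType H.hom]
    (hr : Set.range i.left = SGA3x.neutralSet G) (hc : _root_.RedSub.HasConnectedFibres H) :
    AlgGrp.IsNormalHom i := by
  let κ : G ⊗ H ⟶ G := fst G H * (snd G H ≫ i) * (fst G H)⁻¹
  have hκ : ∀ (T : Over S) (g : T ⟶ G) (n : T ⟶ H), lift g n ≫ κ = g * (n ≫ i) * g⁻¹ := by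
    intro T g n
    simp only [κ, comp_mul, comp_inv, lift_fst, lift_snd_assoc]
  have hconn := Groth.Agent.RedSub.H648.TypeR.hasConnectedFibres_bc G.hom hc
  -- the section of the first projection
  let σ : G ⟶ G ⊗ H := lift (𝟙 G) 1
  have hσκ : σ ≫ κ = 1 := by
    rw [hκ]
    rw [MonObj.one_comp (f := i)]
    simp
  have key : ∀ z : (G ⊗ H).left, κ.left z ∈ SGA3x.neutralSet G := by
    intro z
    rw [neutralSet_eq]
    change _ ∈ connectedComponentIn _ _
    let x : G.left := (fst G H).left z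
    have hw : ∀ y : (G ⊗ H).left, G.hom (κ.left y) = G.hom ((fst G H).left y) := fun y => by
      rw [← Scheme.Hom.comp_apply, Over.w, ← Scheme.Hom.comp_apply, Over.w]
    rw [hw z]
    have hF : _root_.IsPreconnected ((fst G H).left ⁻¹' {x}) := by
      have h1 := (hconn x).isPreconnected
      have h2 := h1.image (pullbackSymmetry H.hom G.hom).hom (Scheme.Hom.continuous _).continuousOn
      have h3 : (pullbackSymmetry H.hom G.hom).hom '' ((Red.bc G.hom H).hom ⁻¹' {x}) =
          (fst G H).left ⁻¹' {x} := by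
        ext w
        constructor
        · rintro ⟨y, hy, rfl⟩
          change (pullback.fst G.hom H.hom) ((pullbackSymmetry H.hom G.hom).hom y) = x
          rw [← Scheme.Hom.comp_apply, pullbackSymmetry_hom_comp_fst]
          exact hy
        · intro hw
          refine ⟨(pullbackSymmetry H.hom G.hom).inv w, ?_, ?_⟩
          · change (pullback.snd H.hom G.hom) ((pullbackSymmetry H.hom G.hom).inv w) = x
            rw [← Scheme.Hom.comp_apply, pullbackSymmetry_inv_comp_snd]
            exact hw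
          · rw [← Scheme.Hom.comp_apply, Iso.inv_hom_id]
            rfl
      rw [← h3]
      exact h2
    have hc1 := hF.image κ.left κ.left.continuous.continuousOn
    have hsub : κ.left '' ((fst G H).left ⁻¹' {x}) ⊆ G.hom ⁻¹' {G.hom x} := by
      rintro _ ⟨y, hy, rfl⟩
      change G.hom (κ.left y) = G.hom x
      rw [hw y, show (fst G H).left y = x from hy]
    have hu : unitSec G (G.hom x) ∈ κ.left '' ((fst G H).left ⁻¹' {x}) := by
      refine ⟨σ.left x, ?_, ?_⟩
      · change (fst G H).left (σ.left x) = x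
        rw [← Scheme.Hom.comp_apply, ← Over.comp_left, lift_fst]
        rfl
      · rw [← Scheme.Hom.comp_apply, ← Over.comp_left, hσκ, ← Scheme.Hom.comp_apply]
        rfl
    exact hc1.subset_connectedComponentIn hu hsub ⟨z, rfl, rfl⟩
  intro T g n
  have hrange : Set.range (lift g n ≫ κ).left ⊆ Set.range i.left := by
    rw [hr]
    rintro _ ⟨t, rfl⟩
    rw [Over.comp_left, Scheme.Hom.comp_apply]
    exact key _
  refine ⟨Over.homMk (IsOpenImmersion.lift i.left (lift g n ≫ κ).left hrange) ?_, ?_⟩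
  · rw [← Over.w i, IsOpenImmersion.lift_fac_assoc, Over.w]
  · rw [← hκ]
    ext1
    exact (IsOpenImmersion.lift_fac i.left (lift g n ≫ κ).left hrange).symm

end K609.OpenNorm
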